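/-
Subgroups of ²E₆(q) containing the points over the field of q elements.
-/
import Cfsg.Agent.Lib.Chev.TwE6
import Cfsg.Agent.Lib.Chev.FoldTwist.Main
import Cfsg.Agent.Lib.Chev.SpecialTools

set_option autoImplicit false
set_option linter.unusedSectionVars false
set_option linter.unusedSimpArgs false
set_option maxHeartbeats 1000000

namespace Cfsg.Agent.Chev.TwSubE6

open Cfsg.Lie
open scoped Matrix

/-- The roots fixed by the twist. -/
def longs : List ℕ := [71, 70, 69, 65, 63, 60, 53, 51, 44, 46, 47, 39, 25, 24, 32, 8, 11, 6, 2, 1, 0, 20, 18, 27]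

/-- The positive roots. -/
def posL : List ℕ := E6.pk.allRoots.filter fun r => E6.pk.isPos r

/-- Conjugation of the root `γ` by the roots in `R` stays in `γ` times the roots in `S`. -/
def ckLev (γ : ℕ) (S R : List ℕ) : Bool :=
  (γ :: S).all fun s => R.all fun r => Nat.blt r 72 && Nat.blt s 72 && (Nat.beq r s || ckOrth E6.pk s r ||
    (!Nat.beq r (E6.pk.ng s) && (E6.pk.cword s r).all fun g => S.contains g.1))

theorem nroots : E6.pk.nroots = 72 := by decide +kernel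

theorem long_tbl : (longs.all fun r => ck1 E6.pk gE6 r) = true ∧
    ((List.range 72).all fun r => !Nat.beq (gE6.rr r) r || longs.contains r) = true := by decide +kernel

variable {K : Type*} [Field K]

local notation "x" => E6.ok.xG (F := K)

theorem com {a b : ℕ} (ho : ckOrth E6.pk a b = true) (u v : K) : x a u * x b v = x b v * x a u :=
  (E6.ok.commute_xG ckComm_E6 ho u v).eq

/-- One-term commutator rule. -/
theorem cj {r s g : ℕ} {k : ℤ} (hr : r < 72) (hs : s < 72) (h1 : s ≠ r) (h2 : s ≠ E6.pk.ng r)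
    (hw : E6.pk.cword r s = [(g, k, 1, 1)]) (hg : ckOrth E6.pk g s = true) (t u : K) :
    MulAut.conj (x s u) (x r t) = x r t * x g ((k : K) * t * u) := by
  rw [MulAut.conj_apply, mul_inv_eq_iff_eq_mul, E6.ok.comm_xG ckComm_E6 (nroots.symm ▸ hr) (nroots.symm ▸ hs) h1 h2, hw]
  simp only [List.map_cons, List.map_nil, List.prod_cons, List.prod_nil, mul_one, pow_one]
  rw [mul_assoc (x r t) (x g _) (x s u), com hg, ← mul_assoc]

theorem cj0 {r s : ℕ} (ho : ckOrth E6.pk s r = true) (t u : K) : MulAut.conj (x s u) (x r t) = x r t := by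
  rw [MulAut.conj_apply, com ho, mul_inv_cancel_right]

theorem lev_gen {γ : ℕ} {S R : List ℕ} (hck : ckLev γ S R = true) {s r : ℕ} (hs : s ∈ γ :: S) (hr : r ∈ R) (u t : K) :
    ∃ W ∈ E6.ok.genR (F := K) (· ∈ S), x r u * x s t * (x r u)⁻¹ = x s t * W := by
  simp only [ckLev, List.all_eq_true, Bool.and_eq_true, Nat.blt_eq] at hck
  obtain ⟨⟨hr72, hs72⟩, h⟩ := hck s hs r hr
  simp only [Bool.or_eq_true, Bool.and_eq_true, Bool.not_eq_true', List.all_eq_true, nbeq, decide_eq_true_eq,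
    decide_eq_false_iff_not] at h
  rcases h with (rfl | h) | ⟨hn, h⟩
  · exact ⟨1, Subgroup.one_mem _, by rw [E6.ok.xG_add, E6.ok.xG_inv, E6.ok.xG_add, mul_one]; ring_nf⟩
  · exact ⟨1, Subgroup.one_mem _, by rw [← com h, mul_inv_cancel_right, mul_one]⟩
  · by_cases he : r = s
    · subst he
      exact ⟨1, Subgroup.one_mem _, by rw [E6.ok.xG_add, E6.ok.xG_inv, E6.ok.xG_add, mul_one]; ring_nf⟩
    have e := E6.ok.comm_xG ckComm_E6 (nroots.symm ▸ hs72) (nroots.symm ▸ hr72) he hn t (-u)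
    set W := ((E6.pk.cword s r).map fun g => x g.1 ((g.2.1 : K) * t ^ g.2.2.1 * (-u) ^ g.2.2.2)).prod
    refine ⟨W⁻¹, inv_mem (list_prod_mem ?_), ?_⟩
    · intro y hy
      obtain ⟨g, hg, rfl⟩ := List.mem_map.1 hy
      exact E6.ok.xG_mem_genR (List.contains_iff_mem.1 (h g hg)) _
    · rw [← E6.ok.xG_inv] at e
      rw [show x r u * x s t * (x r u)⁻¹ = x r u * (x s t * (x r u)⁻¹ * W) * W⁻¹ by group, ← e]
      group

theorem lev {γ : ℕ} {S R : List ℕ} (hck : ckLev γ S R = true) {v : GL chevE6.Idx K}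
    (hv : v ∈ E6.ok.genR (F := K) (· ∈ R)) :
    (∀ t : K, ∃ W ∈ E6.ok.genR (F := K) (· ∈ S), v * x γ t * v⁻¹ = x γ t * W) ∧
      ∀ n ∈ E6.ok.genR (F := K) (· ∈ S), v * n * v⁻¹ ∈ E6.ok.genR (F := K) (· ∈ S) := by
  have gen : ∀ r ∈ R, ∀ u : K,
      (∀ t : K, ∃ W ∈ E6.ok.genR (F := K) (· ∈ S), x r u * x γ t * (x r u)⁻¹ = x γ t * W) ∧
      ∀ n ∈ E6.ok.genR (F := K) (· ∈ S), x r u * n * (x r u)⁻¹ ∈ E6.ok.genR (F := K) (· ∈ S) := by
    refine fun r hr u => ⟨fun t => lev_gen hck (List.mem_cons_self) hr u t, fun n hn => ?_⟩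
    have hle : E6.ok.genR (F := K) (· ∈ S) ≤ (E6.ok.genR (F := K) (· ∈ S)).comap (MulAut.conj (x r u)).toMonoidHom := by
      refine E6.ok.genR_le fun s hs t => ?_
      obtain ⟨W, hW, e⟩ := lev_gen hck (List.mem_cons_of_mem _ hs) hr u t
      show MulAut.conj (x r u) (x s t) ∈ E6.ok.genR (F := K) (· ∈ S)
      rw [MulAut.conj_apply, e]
      exact mul_mem (E6.ok.xG_mem_genR hs t) hW
    exact hle hn
  induction hv using Subgroup.closure_induction'' with
  | one => exact ⟨fun t => ⟨1, Subgroup.one_mem _, by simp⟩, fun n hn => by simpa using hn⟩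
  | mem y hy => obtain ⟨r, u, hr, rfl⟩ := hy; exact gen r hr u
  | inv_mem y hy =>
    obtain ⟨r, u, hr, rfl⟩ := hy
    rw [E6.ok.xG_inv]
    exact gen r hr (-u)
  | mul a b ha hb iha ihb =>
    refine ⟨fun t => ?_, fun n hn => ?_⟩
    · obtain ⟨W, hW, e⟩ := ihb.1 t
      obtain ⟨W', hW', e'⟩ := iha.1 t
      refine ⟨W' * (a * W * a⁻¹), mul_mem hW' (iha.2 W hW), ?_⟩
      rw [show a * b * x γ t * (a * b)⁻¹ = a * (b * x γ t * b⁻¹) * a⁻¹ by group, e,
        show a * (x γ t * W) * a⁻¹ = (a * x γ t * a⁻¹) * (a * W * a⁻¹) by group, e', mul_assoc]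
    · rw [show a * b * n * (a * b)⁻¹ = a * (b * n * b⁻¹) * a⁻¹ by group]
      exact iha.2 _ (ihb.2 n hn)

theorem pos_genR {v : GL chevE6.Idx K} (hv : v ∈ chevE6.posUnipotent K) :
    v ∈ E6.ok.genR (F := K) (· ∈ posL) := by
  rw [E6.ok.posUnipotent_eq] at hv
  exact E6.ok.genR_mono (fun r hr => List.mem_filter.2 ⟨E6.pk.mem_allRoots.2 (E6.pk.isPos_iff.1 hr).2, hr⟩) hv

theorem center71 {v : GL chevE6.Idx K} (hv : v ∈ chevE6.posUnipotent K) (s : K) : v * x 71 s * v⁻¹ = x 71 s := by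
  obtain ⟨W, hW, e⟩ := (lev (γ := 71) (S := []) (R := posL) (by decide +kernel) (pos_genR hv)).1 s
  have hbot : E6.ok.genR (F := K) (fun r => r ∈ ([] : List ℕ)) ≤ ⊥ := E6.ok.genR_le fun r hr => absurd hr List.not_mem_nil
  rw [e, Subgroup.mem_bot.1 (hbot hW), mul_one]

variable (φ : K →+* K)

/-- The rational points. -/
noncomputable def Fx : Subgroup (GL chevE6.Idx K) := MonoidHom.eqLocus (gmap chevE6 φ) (MonoidHom.id _)

theorem mem_Fx {g : GL chevE6.Idx K} : g ∈ Fx φ ↔ gmap chevE6 φ g = g := Iff.rfl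

theorem xG_Fx {r : ℕ} (hr : r < 72) {t : K} (ht : φ t = t) : x r t ∈ Fx φ := by
  rw [mem_Fx, E6.ok.gmap_xG φ (nroots.symm ▸ hr), ht]

/-- The rational points of the twisted group. -/
noncomputable def M : Subgroup (GL chevE6.Idx K) := (TwE6.T φ).fixed ⊓ Fx φ

theorem long_ck {β : ℕ} (hβ : β ∈ longs) : ck1 E6.pk gE6 β = true ∧ β < 72 := by
  have h := List.all_eq_true.1 long_tbl.1 β hβ
  refine ⟨h, ?_⟩
  simp only [ck1, Bool.and_eq_true, Nat.blt_eq, nroots] at h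
  exact h.1.1

theorem long_M {β : ℕ} (hβ : β ∈ longs) {t : K} (ht : φ t = t) : x β t ∈ M φ :=
  ⟨Std.xG_fixed ckG_E6 φ (long_ck hβ).1 ht, xG_Fx φ (long_ck hβ).2 ht⟩

theorem long_param {β : ℕ} (hβ : β ∈ longs) {t : K} (h : x β t ∈ (TwE6.T φ).fixed) : φ t = t := by
  obtain ⟨hck, hlt⟩ := long_ck hβ
  simp only [ck1, Bool.and_eq_true, Nat.blt_eq, nbeq, decide_eq_true_eq] at hck
  have h2 := ((TwE6.T φ).mem_fixed.1 h).2
  rw [Std.σ_xG' ckG_E6 φ hck.1.1 hck.2, hck.1.2] at h2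
  exact E6.ok.xG_inj_param (nroots.symm ▸ hlt) h2

/-- The elements at a pair of roots. -/
noncomputable def P (a b : ℕ) (c : K) : GL chevE6.Idx K := x a c * x b (φ c)

theorem P_add {a b : ℕ} (ho : ckOrth E6.pk a b = true) (c d : K) : P φ a b c * P φ a b d = P φ a b (c + d) := by
  rw [P, P, P, (E6.ok.commute_xG ckComm_E6 ho d (φ c)).symm.mul_mul_mul_comm, E6.ok.xG_add, E6.ok.xG_add, map_add]

theorem P_zero (a b : ℕ) : P φ a b 0 = 1 := by simp [P, E6.ok.xG_zero]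

theorem P_T {a b : ℕ} (hck : ck2 E6.pk gE6 a b = true) (hp : ∀ y, φ (φ y) = y) (c : K) :
    P φ a b c ∈ (TwE6.T φ).fixed := Std.pair_fixed ckG_E6 φ ckComm_E6 hck (hp c)

theorem P_M {a b : ℕ} (hck : ck2 E6.pk gE6 a b = true) (hp : ∀ y, φ (φ y) = y) {c : K} (hc : φ c = c) :
    P φ a b c ∈ M φ := by
  refine ⟨P_T φ hck hp c, ?_⟩
  have hlt := hck
  simp only [ck2, ckOrth, Bool.and_eq_true, Nat.blt_eq, nroots] at hlt
  rw [P, hc]
  exact mul_mem (xG_Fx φ hlt.1.1.1.1.1.1.1.1.1 hc) (xG_Fx φ hlt.1.1.1.1.1.1.1.1.2 hc)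

theorem nW_conj {l : List ℕ} (hl : WordOk E6.pk l) {r s : ℕ} {e : ℤ} (h : nsg E6.pk l r = (s, e)) (hr : r < 72) (t : K) :
    E6.ok.nW l * x r t * (E6.ok.nW (F := K) l)⁻¹ = x s ((e : K) * t) := by
  have := (E6.ok.nW_xG_sign (F := K) l hl r (nroots.symm ▸ hr) t).2
  rwa [h] at this

theorem wok {l : List ℕ} (h : (l.all fun i => Nat.blt i 6) = true) : WordOk E6.pk l := fun i hi =>
  Nat.blt_eq.mp (List.all_eq_true.1 h i hi)

theorem unconj {H : Subgroup (GL chevE6.Idx K)} {n g : GL chevE6.Idx K} (hn : n ∈ H) (h : n * g * n⁻¹ ∈ H) : g ∈ H := by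
  rw [show g = n⁻¹ * (n * g * n⁻¹) * n by group]
  exact mul_mem (mul_mem (inv_mem hn) h) hn

/-- A word made of the orbits. -/
inductive OWord : List ℕ → Prop
  | nil : OWord []
  | cons {o : List ℕ} {l : List ℕ} : o ∈ [[1], [3], [2, 4], [0, 5]] → OWord l → OWord (o ++ l)

theorem ow2 {o : List ℕ} (h : o ∈ [[1], [3], [2, 4], [0, 5]]) : OWord o :=
  List.append_nil o ▸ OWord.cons h OWord.nil

theorem nW_M (G : TwistGrp (TwE6.T φ)) (hO : G.O.orbs = E6.orbsT) {l : List ℕ} (hl : OWord l) :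
    (E6.ok.nW l : GL chevE6.Idx K) ∈ M φ := by
  induction hl with
  | nil => simpa [Ok.nW] using Subgroup.one_mem _
  | @cons o l ho _ ih =>
    rw [E6.ok.nW_append]
    refine mul_mem ⟨?_, ?_⟩ ih
    · simp only [List.mem_cons, List.not_mem_nil, or_false] at ho
      refine G.le_fixed (G.nW_mem (o, o) ?_)
      rw [hO]
      rcases ho with rfl | rfl | rfl | rfl <;> decide
    · refine (mem_Fx φ).2 (E6.ok.gmap_nW φ _ (wok ?_))
      simp only [List.mem_cons, List.not_mem_nil, or_false] at ho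
      rcases ho with rfl | rfl | rfl | rfl <;> decide

/-- An irrational parameter. -/
def Target (H : Subgroup (GL chevE6.Idx K)) : Prop := ∃ c : K, φ c ≠ c ∧ P φ 42 37 c ∈ H

end Cfsg.Agent.Chev.TwSubE6
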