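/-
Rationality of the long root elements in a subgroup of ²E₆(q) containing the rational points.
-/
import Cfsg.Agent.Lib.Chev.TwSubE6.Base

set_option autoImplicit false
set_option linter.unusedSectionVars false
set_option linter.unusedSimpArgs false
set_option maxHeartbeats 1000000

namespace Cfsg.Agent.Chev.TwSubE6

open Cfsg.Lie
open scoped Matrix

variable {K : Type*} [Field K] (φ : K →+* K)

local notation "x" => E6.ok.xG (F := K)

/-- The word carrying the short roots to the simple pair. -/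
def wT : List ℕ := [3, 1, 0, 5, 2, 4, 3, 2, 4]

theorem wnum :
    nsg E6.pk wT 55 = (37, 1) ∧ nsg E6.pk wT 67 = (42, -1) ∧
    nsg E6.pk (wT ++ [0, 5]) 66 = (37, 1) ∧ nsg E6.pk (wT ++ [0, 5]) 68 = (42, 1) ∧
    nsg E6.pk (wT ++ [0, 5]) 69 = (44, -1) := by decide +kernel

theorem owT : OWord wT :=
  OWord.cons (o := [3]) (by simp) (OWord.cons (o := [1]) (by simp) (OWord.cons (o := [0, 5]) (by simp)
    (OWord.cons (o := [2, 4]) (by simp) (OWord.cons (o := [3]) (by simp) (ow2 (o := [2, 4]) (by simp))))))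

theorem owT' : OWord (wT ++ [0, 5]) :=
  OWord.cons (o := [3]) (by simp) (OWord.cons (o := [1]) (by simp) (OWord.cons (o := [0, 5]) (by simp)
    (OWord.cons (o := [2, 4]) (by simp) (OWord.cons (o := [3]) (by simp) (OWord.cons (o := [2, 4]) (by simp)
      (ow2 (o := [0, 5]) (by simp)))))))

variable (G : TwistGrp (TwE6.T φ)) (hO : G.O.orbs = E6.orbsT) (hp : ∀ y, φ (φ y) = y)
  {H : Subgroup (GL chevE6.Idx K)} (hHT : H ≤ (TwE6.T φ).fixed) (hMH : M φ ≤ H)

include hO hMH in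
theorem target68 {c : K} (hc : φ c ≠ c) (h : x 68 c * x 66 (φ c) ∈ H) : Target φ H := by
  have hn := hMH (nW_M φ G hO owT')
  obtain ⟨-, -, w66, w68, -⟩ := wnum
  have hl : WordOk E6.pk (wT ++ [0, 5]) := wok (by decide)
  have h1 := mul_mem (mul_mem hn h) (inv_mem hn)
  set n := E6.ok.nW (F := K) (wT ++ [0, 5])
  rw [show n * (x 68 c * x 66 (φ c)) * n⁻¹ = (n * x 68 c * n⁻¹) * (n * x 66 (φ c) * n⁻¹) by group,
    nW_conj hl w68 (by omega), nW_conj hl w66 (by omega)] at h1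
  exact ⟨c, hc, by simpa [P] using h1⟩

include hO hMH in
theorem target67 {c : K} (hc : φ c ≠ c) (h : x 67 c * x 55 (-φ c) ∈ H) : Target φ H := by
  have hn := hMH (nW_M φ G hO owT)
  obtain ⟨w55, w67, -⟩ := wnum
  have hl : WordOk E6.pk wT := wok (by decide)
  have h1 := mul_mem (mul_mem hn h) (inv_mem hn)
  set n := E6.ok.nW (F := K) wT
  rw [show n * (x 67 c * x 55 (-φ c)) * n⁻¹ = (n * x 67 c * n⁻¹) * (n * x 55 (-φ c) * n⁻¹) by group,
    nW_conj hl w67 (by omega), nW_conj hl w55 (by omega)] at h1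
  refine ⟨-c, fun e => hc (by simpa using e), ?_⟩
  simpa [P] using h1

/-- Every conjugate of that shape in `H` is rational, unless there is an irrational parameter. -/
def Good (H : Subgroup (GL chevE6.Idx K)) (β : ℕ) : Prop :=
  ∀ v ∈ chevE6.posUnipotent K ⊓ (TwE6.T φ).fixed, ∀ t : K, φ t = t → v * x β t * v⁻¹ ∈ H →
    Target φ H ∨ v * x β t * v⁻¹ ∈ Fx φ

include hO in
/-- The decomposition along an orbit of one root. -/
theorem split1 {i a : ℕ} (h : (i, a) ∈ [((1 : ℕ), (46 : ℕ)), (3, 39)]) {v : GL chevE6.Idx K}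
    (hv : v ∈ chevE6.posUnipotent K ⊓ (TwE6.T φ).fixed) :
    ∃ t, φ t = t ∧ ∃ c ∈ chevE6.posUnipotent K ⊓ (TwE6.T φ).fixed,
      E6.ok.nW [i] * c * (E6.ok.nW [i])⁻¹ ∈ chevE6.posUnipotent K ⊓ (TwE6.T φ).fixed ∧ v = x a t * c := by
  have ho : (([i], [i]) : List ℕ × List ℕ) ∈ G.O.orbs := by
    rw [hO]; simp at h; rcases h with ⟨rfl, -⟩ | ⟨rfl, -⟩ <;> decide
  obtain ⟨c, hc, hnc, y, hy, e⟩ := G.split_fixed ckComm_E6 ho (inv_mem hv)
  obtain ⟨n1, n2, -⟩ := TwE6.neg1
  have hck := TwE6.cks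
  simp only [Bool.and_eq_true] at hck
  obtain ⟨⟨⟨⟨⟨⟨⟨⟨k1, -⟩, k2⟩, -⟩, -⟩, -⟩, -⟩, -⟩, -⟩ := hck
  obtain ⟨hy1, hy2⟩ := hy
  have key : ∀ t, y = x a t → φ t = t → _ := fun t et ht => (⟨-t, by rw [map_neg, ht], c⁻¹, inv_mem hc, by
      rw [show E6.ok.nW [i] * c⁻¹ * (E6.ok.nW (F := K) [i])⁻¹ = (E6.ok.nW [i] * c * (E6.ok.nW [i])⁻¹)⁻¹ by group]
      exact inv_mem hnc, by rw [← E6.ok.xG_inv, ← et, ← inv_inv v, e, mul_inv_rev]⟩ :
    ∃ t, φ t = t ∧ ∃ c ∈ chevE6.posUnipotent K ⊓ (TwE6.T φ).fixed,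
      E6.ok.nW [i] * c * (E6.ok.nW [i])⁻¹ ∈ chevE6.posUnipotent K ⊓ (TwE6.T φ).fixed ∧ v = x a t * c)
  simp only [List.mem_cons, List.not_mem_nil, or_false, Prod.mk.injEq] at h
  rcases h with ⟨rfl, rfl⟩ | ⟨rfl, rfl⟩
  · rw [TwE6.genR_neg n1 (by decide)] at hy1
    obtain ⟨t, ht, et⟩ := Std.fixed_single ckG_E6 φ (by decide) k1 ⟨hy1, hy2⟩
    exact key t et ht
  · rw [TwE6.genR_neg n2 (by decide)] at hy1
    obtain ⟨t, ht, et⟩ := Std.fixed_single ckG_E6 φ (by decide) k2 ⟨hy1, hy2⟩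
    exact key t et ht

include hO in
/-- The decomposition along an orbit of two roots. -/
theorem split2 {o : List ℕ} {a b : ℕ} (h : (o, a, b) ∈ [([2, 4], (42 : ℕ), (37 : ℕ)), ([0, 5], 56, 36)])
    {v : GL chevE6.Idx K} (hv : v ∈ chevE6.posUnipotent K ⊓ (TwE6.T φ).fixed) :
    ∃ t, ∃ c ∈ chevE6.posUnipotent K ⊓ (TwE6.T φ).fixed,
      E6.ok.nW o * c * (E6.ok.nW o)⁻¹ ∈ chevE6.posUnipotent K ⊓ (TwE6.T φ).fixed ∧ v = P φ a b t * c := by
  have ho : ((o, o) : List ℕ × List ℕ) ∈ G.O.orbs := by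
    rw [hO]; simp at h; rcases h with ⟨rfl, -⟩ | ⟨rfl, -⟩ <;> decide
  obtain ⟨c, hc, hnc, y, hy, e⟩ := G.split_fixed ckComm_E6 ho (inv_mem hv)
  obtain ⟨-, -, n3, n4⟩ := TwE6.neg1
  have hck := TwE6.cks
  simp only [Bool.and_eq_true] at hck
  obtain ⟨⟨⟨⟨-, k1⟩, -⟩, k3⟩, -⟩ := hck
  obtain ⟨hy1, hy2⟩ := hy
  have key : ckOrth E6.pk a b = true → ∀ t, y = x a t * x b (φ t) →
      ∃ t, ∃ c ∈ chevE6.posUnipotent K ⊓ (TwE6.T φ).fixed,
      E6.ok.nW o * c * (E6.ok.nW o)⁻¹ ∈ chevE6.posUnipotent K ⊓ (TwE6.T φ).fixed ∧ v = P φ a b t * c := by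
    intro hor t et
    refine ⟨-t, c⁻¹, inv_mem hc, ?_, ?_⟩
    · rw [show E6.ok.nW o * c⁻¹ * (E6.ok.nW (F := K) o)⁻¹ = (E6.ok.nW o * c * (E6.ok.nW o)⁻¹)⁻¹ by group]
      exact inv_mem hnc
    · have e2 : P φ a b (-t) = (P φ a b t)⁻¹ :=
        eq_inv_of_mul_eq_one_left (by rw [P_add φ hor, neg_add_cancel, P_zero])
      rw [e2, show P φ a b t = y from et.symm, ← inv_inv v, e, mul_inv_rev]
  simp only [List.mem_cons, List.not_mem_nil, or_false, Prod.mk.injEq] at h
  rcases h with ⟨rfl, rfl, rfl⟩ | ⟨rfl, rfl, rfl⟩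
  · rw [TwE6.genR_neg n3 (by decide)] at hy1
    obtain ⟨t, et⟩ := Std.fixed_pair ckG_E6 φ ckComm_E6 (by decide) (by decide) k3 ⟨hy1, hy2⟩
    exact key (by decide +kernel) t et
  · rw [TwE6.genR_neg n4 (by decide)] at hy1
    obtain ⟨t, et⟩ := Std.fixed_pair ckG_E6 φ ckComm_E6 (by decide) (by decide) k1 ⟨hy1, hy2⟩
    exact key (by decide +kernel) t et

include hO hMH in
/-- Moving along a rational element and an orbit. -/
theorem step {o : List ℕ} (ho : o ∈ [[1], [3], [2, 4], [0, 5]]) {β β' : ℕ} {k : ℤ} (hw : nsg E6.pk o β = (β', k))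
    (hβ : β < 72) (hgood : Good φ H β') {e c : GL chevE6.Idx K} (he : e ∈ M φ)
    (hnc : E6.ok.nW o * c * (E6.ok.nW o)⁻¹ ∈ chevE6.posUnipotent K ⊓ (TwE6.T φ).fixed) {t : K} (ht : φ t = t)
    (hg : e * c * x β t * (e * c)⁻¹ ∈ H) : Target φ H ∨ e * c * x β t * (e * c)⁻¹ ∈ Fx φ := by
  have hn := nW_M φ G hO (ow2 ho)
  have hl : WordOk E6.pk o := wok (by simp at ho; rcases ho with rfl | rfl | rfl | rfl <;> decide)
  set n := E6.ok.nW (F := K) o
  have e1 : n * (e⁻¹ * (e * c * x β t * (e * c)⁻¹) * e) * n⁻¹ =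
      (n * c * n⁻¹) * x β' ((k : K) * t) * (n * c * n⁻¹)⁻¹ := by
    rw [← nW_conj hl hw hβ]; simp only [n]; group
  have h1 : (n * c * n⁻¹) * x β' ((k : K) * t) * (n * c * n⁻¹)⁻¹ ∈ H := by
    rw [← e1]
    exact mul_mem (mul_mem (hMH hn) (mul_mem (mul_mem (inv_mem (hMH he)) hg) (hMH he))) (inv_mem (hMH hn))
  rcases hgood _ hnc _ (by rw [map_mul, map_intCast, ht]) h1 with h | h
  · exact Or.inl h
  · refine Or.inr ?_
    rw [← e1] at h
    have h2 := unconj hn.2 h
    rw [show e * c * x β t * (e * c)⁻¹ = e * (e⁻¹ * (e * c * x β t * (e * c)⁻¹) * e) * e⁻¹ by group]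
    exact mul_mem (mul_mem he.2 h2) (inv_mem he.2)

include hO hMH in
theorem via1 {i a : ℕ} (h : (i, a) ∈ [((1 : ℕ), (46 : ℕ)), (3, 39)]) {β β' : ℕ} {k : ℤ}
    (hw : nsg E6.pk [i] β = (β', k)) (hβ : β < 72) (hgood : Good φ H β') : Good φ H β := by
  intro v hv t ht hg
  obtain ⟨s, hs, c, -, hnc, rfl⟩ := split1 φ G hO h hv
  refine step φ G hO hMH ?_ hw hβ hgood ?_ hnc ht hg
  · simp at h ⊢; omega
  · simp at h; rcases h with ⟨-, rfl⟩ | ⟨-, rfl⟩ <;> exact long_M φ (by decide) hs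

include hO hHT hp in
/-- The long root elements of the unipotent group have rational parameters. -/
theorem split_long {y : GL chevE6.Idx K} {β : ℕ} {s : K} (hy : y ∈ (TwE6.T φ).fixed) (hβ : β ∈ longs)
    (h : y * x β s ∈ H) : φ s = s :=
  long_param φ hβ (by simpa using Subgroup.mul_mem _ (Subgroup.inv_mem _ hy) (hHT h))

include hO hp hHT hMH in
/-- The irrational case at the root `65`. -/
theorem irr65 {a : K} {c : GL chevE6.Idx K} (hcT : c ∈ (TwE6.T φ).fixed)
    (hnc : E6.ok.nW [2, 4] * c * (E6.ok.nW [2, 4])⁻¹ ∈ chevE6.posUnipotent K ⊓ (TwE6.T φ).fixed)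
    (ha : φ a ≠ a) {t : K} (ht : φ t = t) (h0 : t ≠ 0)
    (hg : P φ 42 37 a * c * x 65 t * (P φ 42 37 a * c)⁻¹ ∈ H) : Target φ H := by
  have hl : WordOk E6.pk [2, 4] := wok (by decide)
  have w65 : nsg E6.pk [2, 4] 65 = (69, 1) := by decide +kernel
  set n := E6.ok.nW (F := K) [2, 4]
  set e := P φ 42 37 a
  obtain ⟨W, hW, eW⟩ := (lev (γ := 69) (S := [70, 71]) (R := posL) (by decide +kernel) (pos_genR hnc.1)).1 t
  have hback : n⁻¹ * W * n ∈ E6.ok.genR (F := K) (· ∈ [70, 71]) := by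
    have hle : E6.ok.genR (F := K) (· ∈ [70, 71]) ≤
        (E6.ok.genR (F := K) (· ∈ [70, 71])).map (MulAut.conj n).toMonoidHom := by
      refine E6.ok.genR_le fun r hr u => ⟨x r u, E6.ok.xG_mem_genR hr u, ?_⟩
      show MulAut.conj n (x r u) = _
      simp at hr
      rcases hr with rfl | rfl
      · rw [MulAut.conj_apply, nW_conj (s := 70) (e := 1) hl (by decide +kernel) (by omega), Int.cast_one, one_mul]
      · rw [MulAut.conj_apply, nW_conj (s := 71) (e := 1) hl (by decide +kernel) (by omega), Int.cast_one, one_mul]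
    obtain ⟨m, hm, rfl⟩ := hle hW
    show n⁻¹ * (n * m * n⁻¹) * n ∈ _
    simpa [mul_assoc] using hm
  set m := n⁻¹ * W * n
  have e1 : c * x 65 t * c⁻¹ = x 65 t * m := by
    have h1 : n * (c * x 65 t * c⁻¹) * n⁻¹ = n * (x 65 t * m) * n⁻¹ := by
      rw [show n * (c * x 65 t * c⁻¹) * n⁻¹ = (n * c * n⁻¹) * (n * x 65 t * n⁻¹) * (n * c * n⁻¹)⁻¹ by group,
        show n * (x 65 t * m) * n⁻¹ = (n * x 65 t * n⁻¹) * W by simp only [m]; group, nW_conj hl w65 (by omega),
        Int.cast_one, one_mul]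
      exact eW
    exact mul_left_cancel (mul_right_cancel h1)
  have e2 : e * m * e⁻¹ = m := by
    have hle : E6.ok.genR (F := K) (· ∈ [70, 71]) ≤ Subgroup.centralizer {e} := by
      refine E6.ok.genR_le fun r hr u => Subgroup.mem_centralizer_singleton_iff.2 ?_
      simp at hr
      rcases hr with rfl | rfl <;>
        exact ((E6.ok.commute_xG ckComm_E6 (by decide +kernel) _ _).mul_right
          (E6.ok.commute_xG ckComm_E6 (by decide +kernel) _ _)).eq
    rw [← Subgroup.mem_centralizer_singleton_iff.1 (hle hback), mul_inv_cancel_right]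
  have hm : m ∈ M φ := by
    obtain ⟨s, s', es⟩ := E6.ok.mem_pair ckComm_E6 (a := 70) (b := 71) (by decide +kernel) hback
    have hx : x 65 t ∈ M φ := long_M φ (by decide) ht
    have hmT : m ∈ (TwE6.T φ).fixed := by
      rw [show m = (x 65 t)⁻¹ * (c * x 65 t * c⁻¹) by rw [e1]; group]
      exact Subgroup.mul_mem _ (Subgroup.inv_mem _ hx.1)
        (Subgroup.mul_mem _ (Subgroup.mul_mem _ hcT hx.1) (Subgroup.inv_mem _ hcT))
    rw [es] at hmT ⊢
    have e3 := ((TwE6.T φ).mem_fixed.1 hmT).2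
    rw [(TwE6.T φ).map_mul' _ (E6.ok.mem_group_of_xG _ _) _ (E6.ok.mem_group_of_xG _ _),
      Std.σ_xG' ckG_E6 φ (by decide) (by decide +kernel), Std.σ_xG' ckG_E6 φ (by decide) (by decide +kernel),
      show gE6.rr 70 = 70 by decide +kernel, show gE6.rr 71 = 71 by decide +kernel] at e3
    obtain ⟨u1, u2⟩ := Std.pair_unique ckComm_E6 (by decide +kernel) (by decide +kernel) (by decide +kernel) e3
    exact mul_mem (long_M φ (by decide) u1) (long_M φ (by decide) u2)
  have e4 : e * x 65 t * e⁻¹ = x 65 t * (x 68 (t * a) * (x 66 (t * φ a) * x 69 (t * φ a * a))) := by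
    rw [show e * x 65 t * e⁻¹ = MulAut.conj (x 42 a) (MulAut.conj (x 37 (φ a)) (x 65 t)) by
      simp only [e, P, MulAut.conj_apply]; group]
    simp only [map_mul,
      cj (r := 65) (s := 37) (g := 66) (k := 1) (by omega) (by omega) (by omega) (by decide +kernel)
        (by decide +kernel) (by decide +kernel),
      cj (r := 65) (s := 42) (g := 68) (k := 1) (by omega) (by omega) (by omega) (by decide +kernel)
        (by decide +kernel) (by decide +kernel),
      cj (r := 66) (s := 42) (g := 69) (k := 1) (by omega) (by omega) (by omega) (by decide +kernel)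
        (by decide +kernel) (by decide +kernel)]
    simp [mul_assoc]
  have hk : x 68 (t * a) * (x 66 (t * φ a) * x 69 (t * φ a * a)) ∈ H := by
    rw [show e * c * x 65 t * (e * c)⁻¹ = e * (c * x 65 t * c⁻¹) * e⁻¹ by group, e1,
      show e * (x 65 t * m) * e⁻¹ = (e * x 65 t * e⁻¹) * (e * m * e⁻¹) by group, e2, e4] at hg
    have h2 := mul_mem (mul_mem (inv_mem (hMH (long_M φ (β := 65) (by decide) ht))) hg) (inv_mem (hMH hm))
    simpa [mul_assoc] using h2
  refine target68 φ G hO hMH (c := t * a) (by rw [map_mul, ht]; exact fun e => ha (mul_left_cancel₀ h0 e)) ?_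
  rw [map_mul, ht]
  have h69 : x 69 (t * φ a * a) ∈ M φ := long_M φ (by decide) (by rw [map_mul, map_mul, hp, ht]; ring)
  simpa [mul_assoc] using mul_mem hk (inv_mem (hMH h69))

include hO hp hHT hMH in
theorem good65' (h69 : Good φ H 69) {a : K} {c : GL chevE6.Idx K} (hcT : c ∈ (TwE6.T φ).fixed)
    (hnc : E6.ok.nW [2, 4] * c * (E6.ok.nW [2, 4])⁻¹ ∈ chevE6.posUnipotent K ⊓ (TwE6.T φ).fixed) {t : K} (ht : φ t = t)
    (hg : P φ 42 37 a * c * x 65 t * (P φ 42 37 a * c)⁻¹ ∈ H) :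
    Target φ H ∨ P φ 42 37 a * c * x 65 t * (P φ 42 37 a * c)⁻¹ ∈ Fx φ := by
  by_cases ha : φ a = a
  · exact step φ G hO hMH (o := [2, 4]) (β' := 69) (k := 1) (by simp) (by decide +kernel) (by omega) h69
      (P_M φ (by decide +kernel) hp ha) hnc ht hg
  by_cases h0 : t = 0
  · right; subst h0; simp [E6.ok.xG_zero]
  exact Or.inl (irr65 φ G hO hp hHT hMH hcT hnc ha ht h0 hg)

include hO hp hHT hMH in
/-- The irrational case at the root `53`. -/
theorem irr53 {a : K} {c : GL chevE6.Idx K}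
    (hnc : E6.ok.nW [0, 5] * c * (E6.ok.nW [0, 5])⁻¹ ∈ chevE6.posUnipotent K ⊓ (TwE6.T φ).fixed)
    (ha : φ a ≠ a) {t : K} (ht : φ t = t) (h0 : t ≠ 0)
    (hg : P φ 56 36 a * c * x 53 t * (P φ 56 36 a * c)⁻¹ ∈ H) : Target φ H := by
  have hl : WordOk E6.pk [0, 5] := wok (by decide)
  set n := E6.ok.nW (F := K) [0, 5]
  set e := P φ 56 36 a
  set f := P φ 42 37 (1 : K)
  obtain ⟨W, hW, eW⟩ := (lev (γ := 65) (S := [66, 68, 69, 70, 71]) (R := posL) (by decide +kernel)
    (pos_genR hnc.1)).1 (-t)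
  set m := n⁻¹ * W * n
  have hback : m ∈ E6.ok.genR (F := K) (· ∈ [55, 67, 69, 70, 71]) := by
    have hle : E6.ok.genR (F := K) (· ∈ [66, 68, 69, 70, 71]) ≤
        (E6.ok.genR (F := K) (· ∈ [55, 67, 69, 70, 71])).map (MulAut.conj n).toMonoidHom := by
      refine E6.ok.genR_le fun r hr u => ?_
      have hex : ∃ r' ∈ [55, 67, 69, 70, 71], ∃ k : ℤ, nsg E6.pk [0, 5] r' = (r, k) ∧ (k = 1 ∨ k = -1) ∧ r' < 72 := by
        simp at hr
        rcases hr with rfl | rfl | rfl | rfl | rfl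
        · exact ⟨55, by simp, (nsg E6.pk [0, 5] 55).2, by decide +kernel, by decide +kernel, by omega⟩
        · exact ⟨67, by simp, (nsg E6.pk [0, 5] 67).2, by decide +kernel, by decide +kernel, by omega⟩
        · exact ⟨69, by simp, (nsg E6.pk [0, 5] 69).2, by decide +kernel, by decide +kernel, by omega⟩
        · exact ⟨70, by simp, (nsg E6.pk [0, 5] 70).2, by decide +kernel, by decide +kernel, by omega⟩
        · exact ⟨71, by simp, (nsg E6.pk [0, 5] 71).2, by decide +kernel, by decide +kernel, by omega⟩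
      obtain ⟨r', hr', k, hk, hk1, hlt⟩ := hex
      refine ⟨x r' ((k : K) * u), E6.ok.xG_mem_genR hr' _, ?_⟩
      show MulAut.conj n (x r' ((k : K) * u)) = x r u
      rw [MulAut.conj_apply, nW_conj hl hk hlt]
      rcases hk1 with rfl | rfl <;> simp
    obtain ⟨y, hy, e⟩ := hle hW
    rw [show m = n⁻¹ * W * n from rfl, ← e]
    show n⁻¹ * (n * y * n⁻¹) * n ∈ _
    simpa [mul_assoc] using hy
  have e1 : c * x 53 t * c⁻¹ = x 53 t * m := by
    have h1 : n * (c * x 53 t * c⁻¹) * n⁻¹ = n * (x 53 t * m) * n⁻¹ := by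
      rw [show n * (c * x 53 t * c⁻¹) * n⁻¹ = (n * c * n⁻¹) * (n * x 53 t * n⁻¹) * (n * c * n⁻¹)⁻¹ by group,
        show n * (x 53 t * m) * n⁻¹ = (n * x 53 t * n⁻¹) * W by simp only [m]; group,
        nW_conj (s := 65) (e := -1) hl (by decide +kernel) (by omega), Int.cast_neg, Int.cast_one, neg_one_mul]
      exact eW
    exact mul_left_cancel (mul_right_cancel h1)
  set m' := e * m * e⁻¹
  have hm' : m' ∈ E6.ok.genR (F := K) (· ∈ [55, 67, 66, 68, 69, 70, 71]) := by
    refine (lev (γ := 71) (S := [55, 67, 66, 68, 69, 70, 71]) (R := [56, 36]) (by decide +kernel) (v := e) ?_).2 m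
      (E6.ok.genR_mono (fun r hr => by simp at hr ⊢; tauto) hback)
    exact mul_mem (E6.ok.xG_mem_genR (by simp) _) (E6.ok.xG_mem_genR (by simp) _)
  obtain ⟨W1, hW1, f1⟩ := (lev (γ := 37) (S := [69]) (R := [55, 67, 66, 68, 69, 70, 71]) (by decide +kernel)
    (inv_mem hm')).1 (φ 1)
  obtain ⟨W2, hW2, f2⟩ := (lev (γ := 42) (S := [69]) (R := [55, 67, 66, 68, 69, 70, 71]) (by decide +kernel)
    (inv_mem hm')).1 1
  obtain ⟨s, hs⟩ : ∃ s, m'⁻¹ * f * m' * f⁻¹ = x 69 s := by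
    have hle : E6.ok.genR (F := K) (fun r => r ∈ ([69] : List ℕ)) ≤ chevE6.rootSubgroup K 69 :=
      E6.ok.genR_le fun r hr t => by rw [List.mem_singleton] at hr; exact hr ▸ E6.ok.mem_rootSubgroup t
    have hr69 : ∀ y ∈ E6.ok.genR (F := K) (fun r => r ∈ ([69] : List ℕ)), ∃ s, y = x 69 s := by
      intro y hy
      have h2 := hle hy
      rw [← SetLike.mem_coe, E6.ok.rootSubgroup_eq] at h2
      obtain ⟨t, rfl⟩ := h2
      exact ⟨t, rfl⟩
    obtain ⟨s1, rfl⟩ := hr69 _ hW1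
    obtain ⟨s2, rfl⟩ := hr69 _ hW2
    refine ⟨s2 + s1, ?_⟩
    rw [inv_inv] at f1 f2
    have h37 : x 37 (φ 1) * x 69 s1 = x 69 s1 * x 37 (φ 1) := com (by decide +kernel) _ _
    rw [show m'⁻¹ * f * m' * f⁻¹ = (m'⁻¹ * x 42 1 * m') * (m'⁻¹ * x 37 (φ 1) * m') * (x 37 (φ 1))⁻¹ * (x 42 1)⁻¹ by
      simp only [f, P]; group, f1, f2, h37,
      show x 42 1 * x 69 s2 * (x 69 s1 * x 37 (φ 1)) * (x 37 (φ 1))⁻¹ * (x 42 1)⁻¹ =
        x 42 1 * (x 69 s2 * x 69 s1) * (x 42 1)⁻¹ by group, E6.ok.xG_add, com (a := 42) (b := 69) (by decide +kernel),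
      mul_inv_cancel_right]
  set k := e * x 53 t * e⁻¹
  set w := -(t * φ a * a)
  set R := x 68 w * (x 66 w * x 69 w)
  have ek : f * k * f⁻¹ = k * ((x 67 (-(t * a)) * x 55 (t * φ a)) * R) := by
    have hk : k = x 53 t * (x 64 (-(t * a)) * (x 54 (t * φ a) * x 65 w)) := by
      rw [show k = MulAut.conj (x 56 a) (MulAut.conj (x 36 (φ a)) (x 53 t)) by
        simp only [k, e, P, MulAut.conj_apply]; group]
      simp only [map_mul,
        cj (r := 53) (s := 36) (g := 54) (k := 1) (by omega) (by omega) (by omega) (by decide +kernel)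
          (by decide +kernel) (by decide +kernel),
        cj (r := 53) (s := 56) (g := 64) (k := -1) (by omega) (by omega) (by omega) (by decide +kernel)
          (by decide +kernel) (by decide +kernel),
        cj (r := 54) (s := 56) (g := 65) (k := -1) (by omega) (by omega) (by omega) (by decide +kernel)
          (by decide +kernel) (by decide +kernel)]
      simp [mul_assoc, w]
    rw [hk, show ∀ y : GL chevE6.Idx K, f * y * f⁻¹ = MulAut.conj (x 42 1) (MulAut.conj (x 37 (φ 1)) y) from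
      fun y => by simp only [f, P, MulAut.conj_apply]; group]
    simp only [map_mul, map_one,
      cj0 (r := 53) (s := 37) (by decide +kernel), cj0 (r := 53) (s := 42) (by decide +kernel),
      cj0 (r := 64) (s := 37) (by decide +kernel), cj0 (r := 54) (s := 42) (by decide +kernel),
      cj0 (r := 55) (s := 42) (by decide +kernel),
      cj (r := 54) (s := 37) (g := 55) (k := 1) (by omega) (by omega) (by omega) (by decide +kernel)
        (by decide +kernel) (by decide +kernel),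
      cj (r := 64) (s := 42) (g := 67) (k := 1) (by omega) (by omega) (by omega) (by decide +kernel)
        (by decide +kernel) (by decide +kernel),
      cj (r := 65) (s := 37) (g := 66) (k := 1) (by omega) (by omega) (by omega) (by decide +kernel)
        (by decide +kernel) (by decide +kernel),
      cj (r := 65) (s := 42) (g := 68) (k := 1) (by omega) (by omega) (by omega) (by decide +kernel)
        (by decide +kernel) (by decide +kernel),
      cj (r := 66) (s := 42) (g := 69) (k := 1) (by omega) (by omega) (by omega) (by decide +kernel)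
        (by decide +kernel) (by decide +kernel)]
    simp only [R, Int.cast_one, one_mul, mul_one, mul_assoc]
    rw [← mul_assoc (x 67 _) (x 54 _), com (a := 67) (b := 54) (by decide +kernel), mul_assoc,
      ← mul_assoc (x 55 _) (x 65 _), com (a := 55) (b := 65) (by decide +kernel), mul_assoc,
      ← mul_assoc (x 67 _) (x 65 _), com (a := 67) (b := 65) (by decide +kernel), mul_assoc]
  have hab : ∀ y ∈ E6.ok.genR (F := K) (· ∈ [55, 67, 66, 68, 69, 70, 71]), Commute y m' := by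
    intro y hy
    have hle : E6.ok.genR (F := K) (· ∈ [55, 67, 66, 68, 69, 70, 71]) ≤ Subgroup.centralizer {m'} := by
      refine E6.ok.genR_le fun r hr u => ?_
      have hle2 : E6.ok.genR (F := K) (· ∈ [55, 67, 66, 68, 69, 70, 71]) ≤ Subgroup.centralizer {x r u} := by
        refine E6.ok.genR_le fun r' hr' u' => Subgroup.mem_centralizer_singleton_iff.2 ?_
        have htbl : ∀ i ∈ [55, 67, 66, 68, 69, 70, 71], ∀ j ∈ [55, 67, 66, 68, 69, 70, 71],
            j = i ∨ ckOrth E6.pk i j = true := by decide +kernel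
        rcases htbl r hr r' hr' with rfl | ho
        · rw [E6.ok.xG_add, E6.ok.xG_add, add_comm]
        · exact (com ho u u').symm
      exact Subgroup.mem_centralizer_singleton_iff.2 (Subgroup.mem_centralizer_singleton_iff.1 (hle2 hm')).symm
    exact Subgroup.mem_centralizer_singleton_iff.1 (hle hy)
  set y := x 67 (-(t * a)) * x 55 (t * φ a)
  have hh : y * R * x 69 s ∈ H := by
    have hg' : k * m' ∈ H := by
      rwa [show e * c * x 53 t * (e * c)⁻¹ = e * (c * x 53 t * c⁻¹) * e⁻¹ by group, e1,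
        show e * (x 53 t * m) * e⁻¹ = k * m' by simp only [k, m']; group] at hg
    have hf : f ∈ H := hMH (P_M φ (by decide +kernel) hp (map_one φ))
    have hkey : (k * m')⁻¹ * (f * (k * m') * f⁻¹) = y * R * x 69 s := by
      have hD : Commute (y * R) m' := hab _ (by
        exact mul_mem (mul_mem (E6.ok.xG_mem_genR (by simp) _) (E6.ok.xG_mem_genR (by simp) _))
          (mul_mem (E6.ok.xG_mem_genR (by simp) _)
            (mul_mem (E6.ok.xG_mem_genR (by simp) _) (E6.ok.xG_mem_genR (by simp) _))))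
      rw [← hs, show (k * m')⁻¹ * (f * (k * m') * f⁻¹) = m'⁻¹ * (k⁻¹ * (f * k * f⁻¹)) * (f * m' * f⁻¹) by group,
        ek, inv_mul_cancel_left, mul_assoc m'⁻¹, show y * R * (f * m' * f⁻¹) = (y * R * m') * (m'⁻¹ * f * m' * f⁻¹) by
          group, hD.eq]
      group
    exact hkey ▸ mul_mem (inv_mem hg') (mul_mem (mul_mem hf hg') (inv_mem hf))
  have hw : φ w = w := by simp only [w, map_neg, map_mul, hp, ht]; ring
  have hR : R ∈ M φ := by
    have h1 := mul_mem (P_M φ (a := 68) (b := 66) (by decide +kernel) hp hw) (long_M φ (β := 69) (by decide) hw)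
    simpa [P, R, hw, mul_assoc] using h1
  have hy : y ∈ (TwE6.T φ).fixed := by
    refine (TwE6.T φ).mem_fixed.2 ⟨mul_mem (E6.ok.mem_group_of_xG _ _) (E6.ok.mem_group_of_xG _ _), ?_⟩
    rw [(TwE6.T φ).map_mul' _ (E6.ok.mem_group_of_xG _ _) _ (E6.ok.mem_group_of_xG _ _),
      (TwE6.T φ).σ_xG 67 (by decide) _, (TwE6.T φ).σ_xG 55 (by decide) _]
    show x (gE6.rr 67) ((gE6.eps 67 : K) * φ _) * x (gE6.rr 55) ((gE6.eps 55 : K) * φ _) = _
    rw [show gE6.rr 67 = 55 by decide +kernel, show gE6.rr 55 = 67 by decide +kernel,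
      show gE6.eps 67 = -1 by decide +kernel, show gE6.eps 55 = -1 by decide +kernel,
      com (a := 55) (b := 67) (by decide +kernel)]
    simp only [y, map_neg, map_mul, ht, hp, Int.cast_neg, Int.cast_one, neg_one_mul, neg_neg]
  have hs' : φ s = s := split_long φ G hO hp hHT (y := y * R) (Subgroup.mul_mem _ hy hR.1) (β := 69) (by decide) hh
  have hyH : y ∈ H := by
    simpa [mul_assoc] using mul_mem (mul_mem hh (inv_mem (hMH (long_M φ (β := 69) (by decide) hs')))) (inv_mem (hMH hR))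
  refine target67 φ G hO hMH (c := -(t * a))
    (by rw [map_neg, map_mul, ht]; exact fun e => ha (mul_left_cancel₀ h0 (neg_injective e))) ?_
  rwa [map_neg, map_mul, ht, neg_neg]

include hO hp hHT hMH in
theorem good53' (h65 : Good φ H 65) {a : K} {c : GL chevE6.Idx K}
    (hnc : E6.ok.nW [0, 5] * c * (E6.ok.nW [0, 5])⁻¹ ∈ chevE6.posUnipotent K ⊓ (TwE6.T φ).fixed) {t : K} (ht : φ t = t)
    (hg : P φ 56 36 a * c * x 53 t * (P φ 56 36 a * c)⁻¹ ∈ H) :
    Target φ H ∨ P φ 56 36 a * c * x 53 t * (P φ 56 36 a * c)⁻¹ ∈ Fx φ := by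
  by_cases ha : φ a = a
  · exact step φ G hO hMH (o := [0, 5]) (β' := 65) (k := -1) (by simp) (by decide +kernel) (by omega) h65
      (P_M φ (by decide +kernel) hp ha) hnc ht hg
  by_cases h0 : t = 0
  · right; subst h0; simp [E6.ok.xG_zero]
  exact Or.inl (irr53 φ G hO hp hHT hMH hnc ha ht h0 hg)

include hO hp hHT hMH in
/-- The irrational case at the root `47`. -/
theorem irr47 {a : K} {c : GL chevE6.Idx K} (hv : P φ 42 37 a * c ∈ chevE6.posUnipotent K ⊓ (TwE6.T φ).fixed)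
    (hcT : c ∈ (TwE6.T φ).fixed)
    (hnc : E6.ok.nW [2, 4] * c * (E6.ok.nW [2, 4])⁻¹ ∈ chevE6.posUnipotent K ⊓ (TwE6.T φ).fixed)
    (ha : φ a ≠ a) {t : K} (ht : φ t = t) (h0 : t ≠ 0)
    (hg : P φ 42 37 a * c * x 47 t * (P φ 42 37 a * c)⁻¹ ∈ H) : Target φ H := by
  set v := P φ 42 37 a * c
  obtain ⟨W, hW, eW⟩ := (lev (γ := 60) (S := [63, 65, 66, 68, 69, 70, 71]) (R := posL) (by decide +kernel)
    (pos_genR (inv_mem hv.1))).1 1
  obtain ⟨W', hW', eW'⟩ := (lev (γ := 47) (S := [71]) (R := [63, 65, 66, 68, 69, 70, 71]) (by decide +kernel) hW).1 t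
  have hle : E6.ok.genR (F := K) (fun r => r ∈ ([71] : List ℕ)) ≤ chevE6.rootSubgroup K 71 :=
    E6.ok.genR_le fun r hr t => by rw [List.mem_singleton] at hr; exact hr ▸ E6.ok.mem_rootSubgroup t
  have h2 := hle hW'
  rw [← SetLike.mem_coe, E6.ok.rootSubgroup_eq] at h2
  obtain ⟨s, rfl⟩ := h2
  have e3 : x 60 1 * x 47 t * (x 60 1)⁻¹ = x 47 t * x 65 (-t) := by
    rw [← MulAut.conj_apply, cj (r := 47) (s := 60) (g := 65) (k := -1) (by omega) (by omega) (by omega)
      (by decide +kernel) (by decide +kernel) (by decide +kernel)]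
    simp
  rw [inv_inv] at eW
  have hu : x 60 (1 : K) ∈ chevE6.posUnipotent K := E6.ok.xG_mem_pos (by decide +kernel) _
  have key : (v * x 47 t * v⁻¹)⁻¹ * (x 60 1 * (v * x 47 t * v⁻¹) * (x 60 1)⁻¹) =
      v * x 65 (-t) * v⁻¹ * x 71 s := by
    rw [show (v * x 47 t * v⁻¹)⁻¹ * (x 60 1 * (v * x 47 t * v⁻¹) * (x 60 1)⁻¹) =
      v * ((x 47 t)⁻¹ * ((v⁻¹ * x 60 1 * v) * x 47 t * (v⁻¹ * x 60 1 * v)⁻¹)) * v⁻¹ by group, eW,
      show x 60 1 * W * x 47 t * (x 60 1 * W)⁻¹ = x 60 1 * (W * x 47 t * W⁻¹) * (x 60 1)⁻¹ by group, eW',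
      show x 60 1 * (x 47 t * x 71 s) * (x 60 1)⁻¹ = (x 60 1 * x 47 t * (x 60 1)⁻¹) * (x 60 1 * x 71 s * (x 60 1)⁻¹) by
        group, e3, center71 hu,
      show v * ((x 47 t)⁻¹ * (x 47 t * x 65 (-t) * x 71 s)) * v⁻¹ = v * x 65 (-t) * v⁻¹ * (v * x 71 s * v⁻¹) by group,
      center71 hv.1]
  have h60 := hMH (long_M φ (β := 60) (by decide) (map_one φ))
  have hh : v * x 65 (-t) * v⁻¹ * x 71 s ∈ H :=
    key ▸ mul_mem (inv_mem hg) (mul_mem (mul_mem h60 hg) (inv_mem h60))
  have ht' : φ (-t) = -t := by rw [map_neg, ht]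
  have hs := split_long φ G hO hp hHT (Subgroup.mul_mem _ (Subgroup.mul_mem _ hv.2
    (long_M φ (β := 65) (by decide) ht').1) (Subgroup.inv_mem _ hv.2)) (β := 71) (by decide) hh
  refine irr65 φ G hO hp hHT hMH hcT hnc ha ht' (neg_ne_zero.2 h0) ?_
  have h5 := mul_mem hh (inv_mem (hMH (long_M φ (β := 71) (by decide) hs)))
  rwa [mul_inv_cancel_right] at h5

include hMH in
/-- A commutator with the highest root element. -/
theorem down {β β' : ℕ} {k : ℤ} (hβ : β < 72) (h1 : (71 : ℕ) ≠ β) (h2 : (71 : ℕ) ≠ E6.pk.ng β)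
    (hw : E6.pk.cword β 71 = [(β', k, 1, 1)]) {v : GL chevE6.Idx K} (hv : v ∈ chevE6.posUnipotent K) {t : K}
    (hg : v * x β t * v⁻¹ ∈ H) : v * x β' ((k : K) * t) * v⁻¹ ∈ H := by
  have e1 : x 71 1 * x β t = x β t * x 71 1 * x β' ((k : K) * t) := by
    rw [E6.ok.comm_xG ckComm_E6 (nroots.symm ▸ hβ) (by decide) h1 h2, hw]
    simp
  have h2' : (v * x β t * v⁻¹)⁻¹ * x 71 1 * (v * x β t * v⁻¹) = x 71 1 * (v * x β' ((k : K) * t) * v⁻¹) := by
    rw [show (v * x β t * v⁻¹)⁻¹ * x 71 1 * (v * x β t * v⁻¹) =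
      v * ((x β t)⁻¹ * ((v⁻¹ * x 71 1 * v⁻¹⁻¹) * x β t)) * v⁻¹ by group, center71 (inv_mem hv), e1,
      show v * ((x β t)⁻¹ * (x β t * x 71 1 * x β' ((k : K) * t))) * v⁻¹ =
        (v * x 71 1 * v⁻¹) * (v * x β' ((k : K) * t) * v⁻¹) by group, center71 hv]
  have hx := hMH (long_M φ (β := 71) (by decide) (map_one φ))
  have h4 : x 71 1 * (v * x β' ((k : K) * t) * v⁻¹) ∈ H := h2' ▸ mul_mem (mul_mem (inv_mem hg) hx) hg
  simpa using mul_mem (inv_mem hx) h4

include hO hp hHT hMH in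
theorem all_good : ∀ β ∈ longs, Good φ H β := by
  have g71 : Good φ H 71 := fun v hv t ht _ =>
    Or.inr (by rw [center71 hv.1]; exact (long_M φ (β := 71) (by decide) ht).2)
  have V1 : ∀ {β β' : ℕ} {k : ℤ}, nsg E6.pk [1] β = (β', k) → β < 72 → Good φ H β' → Good φ H β :=
    fun hw hβ hgood => via1 φ G hO hMH (i := 1) (a := 46) (by simp) hw hβ hgood
  have V2 : ∀ {β β' : ℕ} {k : ℤ}, nsg E6.pk [3] β = (β', k) → β < 72 → Good φ H β' → Good φ H β :=
    fun hw hβ hgood => via1 φ G hO hMH (i := 3) (a := 39) (by simp) hw hβ hgood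
  have g70 : Good φ H 70 := V1 (β' := 71) (k := 1) (by decide +kernel) (by omega) g71
  have g69 : Good φ H 69 := V2 (β' := 70) (k := 1) (by decide +kernel) (by omega) g70
  have g65 : Good φ H 65 := fun v hv t ht hg => by
    obtain ⟨a, c, hc, hnc, rfl⟩ := split2 φ G hO (o := [2, 4]) (a := 42) (b := 37) (by simp) hv
    exact good65' φ G hO hp hHT hMH g69 hc.2 hnc ht hg
  have g63 : Good φ H 63 := V2 (β' := 65) (k := 1) (by decide +kernel) (by omega) g65
  have g60 : Good φ H 60 := V1 (β' := 63) (k := 1) (by decide +kernel) (by omega) g63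
  have g53 : Good φ H 53 := fun v hv t ht hg => by
    obtain ⟨a, c, -, hnc, rfl⟩ := split2 φ G hO (o := [0, 5]) (a := 56) (b := 36) (by simp) hv
    exact good53' φ G hO hp hHT hMH g65 hnc ht hg
  have g51 : Good φ H 51 := V2 (β' := 53) (k := 1) (by decide +kernel) (by omega) g53
  have g44 : Good φ H 44 := V1 (β' := 51) (k := 1) (by decide +kernel) (by omega) g51
  have g47 : Good φ H 47 := fun v hv t ht hg => by
    obtain ⟨a, c, hc, hnc, rfl⟩ := split2 φ G hO (o := [2, 4]) (a := 42) (b := 37) (by simp) hv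
    by_cases ha : φ a = a
    · exact step φ G hO hMH (o := [2, 4]) (β' := 51) (k := 1) (by simp) (by decide +kernel) (by omega) g51
        (P_M φ (by decide +kernel) hp ha) hnc ht hg
    by_cases h0 : t = 0
    · right; subst h0; simp [E6.ok.xG_zero]
    exact Or.inl (irr47 φ G hO hp hHT hMH hv hc.2 hnc ha ht h0 hg)
  have g46 : Good φ H 46 := V2 (β' := 47) (k := 1) (by decide +kernel) (by omega) g47
  have g39 : Good φ H 39 := V1 (β' := 47) (k := -1) (by decide +kernel) (by omega) g47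
  have g25 : Good φ H 25 := V1 (β' := 46) (k := -1) (by decide +kernel) (by omega) g46
  have g32 : Good φ H 32 := V2 (β' := 39) (k := -1) (by decide +kernel) (by omega) g39
  have g24 : Good φ H 24 := V1 (β' := 32) (k := 1) (by decide +kernel) (by omega) g32
  have g20 : Good φ H 20 := fun v hv t ht hg => by
    obtain ⟨a, c, hc, hnc, rfl⟩ := split2 φ G hO (o := [2, 4]) (a := 42) (b := 37) (by simp) hv
    by_cases ha : φ a = a
    · exact step φ G hO hMH (o := [2, 4]) (β' := 24) (k := 1) (by simp) (by decide +kernel) (by omega) g24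
        (P_M φ (by decide +kernel) hp ha) hnc ht hg
    by_cases h0 : t = 0
    · right; subst h0; simp [E6.ok.xG_zero]
    have h1 := down φ hMH (β := 20) (β' := 65) (k := 1) (by omega) (by omega) (by decide +kernel)
      (by decide +kernel) hv.1 hg
    simp only [Int.cast_one, one_mul] at h1
    exact Or.inl (irr65 φ G hO hp hHT hMH hc.2 hnc ha ht h0 h1)
  have g18 : Good φ H 18 := V2 (β' := 20) (k := -1) (by decide +kernel) (by omega) g20
  have g27 : Good φ H 27 := V1 (β' := 20) (k := 1) (by decide +kernel) (by omega) g20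
  have g8 : Good φ H 8 := fun v hv t ht hg => by
    obtain ⟨a, c, hc, hnc, rfl⟩ := split2 φ G hO (o := [0, 5]) (a := 56) (b := 36) (by simp) hv
    by_cases ha : φ a = a
    · exact step φ G hO hMH (o := [0, 5]) (β' := 20) (k := -1) (by simp) (by decide +kernel) (by omega) g20
        (P_M φ (by decide +kernel) hp ha) hnc ht hg
    by_cases h0 : t = 0
    · right; subst h0; simp [E6.ok.xG_zero]
    have h1 := down φ hMH (β := 8) (β' := 53) (k := 1) (by omega) (by omega) (by decide +kernel)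
      (by decide +kernel) hv.1 hg
    simp only [Int.cast_one, one_mul] at h1
    exact Or.inl (irr53 φ G hO hp hHT hMH hnc ha ht h0 h1)
  have g11 : Good φ H 11 := V1 (β' := 8) (k := 1) (by decide +kernel) (by omega) g8
  have g6 : Good φ H 6 := V2 (β' := 8) (k := -1) (by decide +kernel) (by omega) g8
  have g2 : Good φ H 2 := fun v hv t ht hg => by
    obtain ⟨a, c, hc, hnc, rfl⟩ := split2 φ G hO (o := [2, 4]) (a := 42) (b := 37) (by simp) hv
    by_cases ha : φ a = a
    · exact step φ G hO hMH (o := [2, 4]) (β' := 6) (k := 1) (by simp) (by decide +kernel) (by omega) g6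
        (P_M φ (by decide +kernel) hp ha) hnc ht hg
    by_cases h0 : t = 0
    · right; subst h0; simp [E6.ok.xG_zero]
    have h1 := down φ hMH (β := 2) (β' := 47) (k := -1) (by omega) (by omega) (by decide +kernel)
      (by decide +kernel) hv.1 hg
    exact Or.inl (irr47 φ G hO hp hHT hMH hv hc.2 hnc ha (by simp [ht]) (by simpa using h0) h1)
  have g1 : Good φ H 1 := V2 (β' := 2) (k := -1) (by decide +kernel) (by omega) g2
  have g0 : Good φ H 0 := V1 (β' := 1) (k := -1) (by decide +kernel) (by omega) g1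
  simp only [longs, List.forall_mem_cons]
  exact ⟨g71, g70, g69, g65, g63, g60, g53, g51, g44, g46, g47, g39, g25, g24, g32, g8, g11, g6, g2, g1, g0, g20, g18, g27, fun y hy => absurd hy List.not_mem_nil⟩

end Cfsg.Agent.Chev.TwSubE6
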