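/-
The rational points of ²E₆(q) form a maximal subgroup.
-/
import Cfsg.Agent.Lib.Chev.TwSubE6.Main
import Cfsg.Agent.Lib.Chev.Aut.TwAutGen

set_option autoImplicit false
set_option linter.unusedSectionVars false
set_option linter.unusedSimpArgs false
set_option maxHeartbeats 1000000

namespace Cfsg.Agent.Chev.TwSubE6

open Cfsg.Lie
open scoped Matrix

/-- The word of the longest element. -/
def w0 : List ℕ := (List.replicate 6 [1, 3, 2, 4, 0, 5]).flatten

theorem w0_tbl :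
    (E6.pk.allRoots.all fun r => !E6.pk.isPos r || !E6.pk.isPos (wl E6.pk w0 r)) = true ∧
    (w0.all fun i => Nat.blt i 6) = true := by decide +kernel

theorem wtab :
    nsg E6.pk [2, 4, 3, 1] 71 = (65, 1) ∧
    nsg E6.pk [3, 2, 4, 3, 0, 5, 2, 4, 3, 1] 71 = (46, -1) ∧
    nsg E6.pk [1, 2, 4, 3, 0, 5, 2, 4, 3, 1] 71 = (39, 1) ∧
    nsg E6.pk ([2, 4, 0, 5] ++ (wT ++ [0, 5])) 68 = (56, 1) ∧
    nsg E6.pk ([2, 4, 0, 5] ++ (wT ++ [0, 5])) 66 = (36, 1) ∧
    nsg E6.pk ([2, 4, 0, 5] ++ (wT ++ [0, 5])) 69 = (60, 1) := by decide +kernel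

theorem stab : E6.pk.A 3 42 = -1 ∧ E6.pk.A 3 37 = -1 := by decide +kernel

theorem ow_app {l l' : List ℕ} (h : OWord l) (h' : OWord l') : OWord (l ++ l') := by
  induction h with
  | nil => exact h'
  | cons ho _ ih => rw [List.append_assoc]; exact OWord.cons ho ih

theorem ow6 : OWord [1, 3, 2, 4, 0, 5] :=
  OWord.cons (o := [1]) (by simp) (OWord.cons (o := [3]) (by simp) (OWord.cons (o := [2, 4]) (by simp)
    (ow2 (o := [0, 5]) (by simp))))

theorem ow0 : OWord w0 :=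
  ow_app ow6 (ow_app ow6 (ow_app ow6 (ow_app ow6 (ow_app ow6 (ow_app ow6 OWord.nil)))))

theorem owA : OWord [2, 4, 3, 1] :=
  OWord.cons (o := [2, 4]) (by simp) (OWord.cons (o := [3]) (by simp) (ow2 (o := [1]) (by simp)))

theorem owB : OWord [2, 4, 3, 0, 5, 2, 4, 3, 1] :=
  OWord.cons (o := [2, 4]) (by simp) (OWord.cons (o := [3]) (by simp) (OWord.cons (o := [0, 5]) (by simp) owA))

theorem owE : OWord [2, 4, 0, 5] := OWord.cons (o := [2, 4]) (by simp) (ow2 (o := [0, 5]) (by simp))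

variable {K : Type*} [Field K] (φ : K →+* K) {q : ℕ} (hφ : ∀ t, φ t = t ^ q) [Fintype K]
  (hK : Fintype.card K = q ^ 2) (G : TwistGrp (TwE6.T φ)) (hO : G.O.orbs = E6.orbsT)
  (hp : ∀ y, φ (φ y) = y) {H : Subgroup (GL chevE6.Idx K)} (hHT : H ≤ (TwE6.T φ).fixed)
  (hMH : M φ ≤ H)

local notation "x" => E6.ok.xG (F := K)

theorem conj_form {g : GL chevE6.Idx K} (hg : g ∈ (TwE6.T φ).fixed) {s : K} (hs : φ s = s)
    (G : TwistGrp (TwE6.T φ)) :
    ∃ v ∈ chevE6.posUnipotent K ⊓ (TwE6.T φ).fixed, ∃ β ∈ longs, ∃ t, φ t = t ∧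
      g * x 71 s * g⁻¹ = v * x β t * v⁻¹ := by
  obtain ⟨l, hl, hc, n, hn, d0, hd0, en, b, hb, u, hu, rfl⟩ := G.decomp ckComm_E6 hg
  obtain ⟨v, hv, d, hd, rfl⟩ := TwistGrp.borel_fixed ckComm_E6 hb.1 ((TwE6.T φ).mem_fixed.1 hb.2).2
  have h71 : 71 < E6.pk.nroots := by decide
  obtain ⟨e, -, he⟩ := E6.ok.conj_nW (F := K) hl hd0 h71
  obtain ⟨c, rfl⟩ := E6.ok.mem_diagonal_iff.1 hd.1
  set β := wl E6.pk l 71
  have hβn := E6.ok.wl_lt l hl 71 h71
  have hrr : gE6.rr β = β := by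
    have h1 := hc 71 h71
    rw [show (TwE6.T φ).ρ 71 = 71 by show gE6.rr 71 = 71; decide +kernel] at h1
    exact h1.symm
  have hβ : β ∈ longs := by
    have h2 := List.all_eq_true.1 long_tbl.2 β (List.mem_range.2 (nroots ▸ hβn))
    simpa [hrr] using h2
  have e1 : (E6.ok.hHom c * n) * x 71 s * (E6.ok.hHom c * n)⁻¹ = x β (hchar E6.pk c β * (e * s)) := by
    rw [← E6.ok.hHom_xG c hβn, ← he s, en]; group
  have hfix : x β (hchar E6.pk c β * (e * s)) ∈ (TwE6.T φ).fixed := by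
    rw [← e1]
    exact Subgroup.mul_mem _ (Subgroup.mul_mem _ (Subgroup.mul_mem _ hd.2 (G.le_fixed hn))
      (long_M φ (β := 71) (by decide) hs).1) (Subgroup.inv_mem _ (Subgroup.mul_mem _ hd.2 (G.le_fixed hn)))
  refine ⟨v, hv, β, hβ, _, long_param φ hβ hfix, ?_⟩
  rw [← e1, show v * E6.ok.hHom c * n * u * x 71 s * (v * E6.ok.hHom c * n * u)⁻¹ =
    v * ((E6.ok.hHom c * n) * (u * x 71 s * u⁻¹) * (E6.ok.hHom c * n)⁻¹) * v⁻¹ by group,
    center71 (E6.ok.negS_le_pos l hu.1)]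

include hO hp hHT hMH in
theorem rational_or_target {g : GL chevE6.Idx K} (hg : g ∈ H) {s : K} (hs : φ s = s) :
    g * x 71 s * g⁻¹ ∈ Fx φ ∨ Target φ H := by
  obtain ⟨v, hv, β, hβ, t, ht, e⟩ := conj_form φ (hHT hg) hs G
  have hm : v * x β t * v⁻¹ ∈ H := e ▸ mul_mem (mul_mem hg (hMH (long_M φ (β := 71) (by decide) hs))) (inv_mem hg)
  rw [e]
  exact (all_good φ G hO hp hHT hMH β hβ v hv t ht hm).symm

/-- Commuting with all rational conjugates of the long root elements. -/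
def Centr (z : GL chevE6.Idx K) : Prop :=
  ∀ m ∈ M φ, ∀ s : K, φ s = s → m * x 71 s * m⁻¹ ∈ Subgroup.centralizer {z}

theorem diag_pos {i : ℕ} (hi : i < 6) {k : K} (hk : k ≠ 0) {c : Fin 6 → Kˣ} {a : GL chevE6.Idx K}
    (ha : a ∈ E6.ok.genR (F := K) (Ok.Out E6.pk (· = i)))
    (he : E6.ok.hHom c * (x (E6.pk.sim i) k * a) * (E6.ok.hHom c)⁻¹ = x (E6.pk.sim i) k * a) :
    hchar E6.pk c (E6.pk.sim i) = (1 : K) := by
  have hs : E6.pk.sim i < E6.pk.nroots := E6.ok.sim_lt (i := i) hi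
  have hd : E6.ok.hHom c ∈ chevE6.diagonalSubgroup K := E6.ok.mem_diagonal_iff.2 ⟨c, rfl⟩
  have ha' := TwistGrp.diag_genR (h := E6.ok) (S := Ok.Out E6.pk (· = i)) (fun r hr => hr.1) hd ha
  rw [show E6.ok.hHom c * (x (E6.pk.sim i) k * a) * (E6.ok.hHom c)⁻¹ =
    (E6.ok.hHom c * x (E6.pk.sim i) k * (E6.ok.hHom c)⁻¹) * (E6.ok.hHom c * a * (E6.ok.hHom c)⁻¹) by group,
    E6.ok.hHom_xG c hs] at he
  have h2 : x (E6.pk.sim i) (hchar E6.pk c (E6.pk.sim i) * k - k) ∈ E6.ok.genR (Ok.Out E6.pk (· = i)) := by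
    have e : (x (E6.pk.sim i) k)⁻¹ * x (E6.pk.sim i) (hchar E6.pk c (E6.pk.sim i) * k) =
        a * (E6.ok.hHom c * a * (E6.ok.hHom c)⁻¹)⁻¹ := by
      rw [eq_mul_inv_iff_mul_eq, mul_assoc, he, inv_mul_cancel_left]
    rw [sub_eq_add_neg, add_comm, ← E6.ok.xG_add, ← E6.ok.xG_inv, e]
    exact mul_mem ha (inv_mem ha')
  have h3 := sub_eq_zero.1 (E6.ok.sim_not_out ckComm_E6 hi h2)
  exact mul_right_cancel₀ hk (h3.trans (one_mul k).symm)

include hO hp in
theorem cent_trivial {z : GL chevE6.Idx K} (hz : z ∈ chevE6.group K) (hcz : Centr φ z) : z = 1 := by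
  obtain ⟨w65, w46, w39, w56, w36, w60⟩ := wtab
  obtain ⟨-, -, w37, w42, w44⟩ := wnum
  have hnA := nW_M φ G hO owA
  have hex : ∀ {l : List ℕ} {r : ℕ} {k : ℤ}, OWord l → (l.all fun i => Nat.blt i 6) = true →
      nsg E6.pk l 71 = (r, k) → k = 1 ∨ k = -1 → ∀ m ∈ M φ, ∀ w, Centr φ w → ∀ t, φ t = t →
      m * x r t * m⁻¹ ∈ Subgroup.centralizer {w} := by
    intro l r k hl hl' hw hk m hm w hcw t ht
    have h1 := hcw (m * E6.ok.nW l) (mul_mem hm (nW_M φ G hO hl)) ((k : K) * t) (by rw [map_mul, map_intCast, ht])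
    rw [show m * E6.ok.nW l * x 71 ((k : K) * t) * (m * E6.ok.nW (F := K) l)⁻¹ =
      m * (E6.ok.nW l * x 71 ((k : K) * t) * (E6.ok.nW l)⁻¹) * m⁻¹ by group, nW_conj (wok hl') hw (by omega)] at h1
    rcases hk with rfl | rfl <;> simpa using h1
  have he1 : P φ 42 37 (1 : K) ∈ M φ := P_M φ (by decide +kernel) hp (map_one φ)
  have hy0 : ∀ n ∈ M φ, ∀ w, Centr φ w →
      n * (x 68 1 * (x 66 1 * x 69 1)) * n⁻¹ ∈ Subgroup.centralizer {w} := by
    intro n hn w hcw
    have e : (x 65 (1 : K))⁻¹ * (P φ 42 37 1 * x 65 1 * (P φ 42 37 1)⁻¹) = x 68 1 * (x 66 1 * x 69 1) := by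
      rw [show P φ 42 37 (1 : K) * x 65 1 * (P φ 42 37 1)⁻¹ = MulAut.conj (x 42 1) (MulAut.conj (x 37 (φ 1)) (x 65 1)) by
        simp only [P, MulAut.conj_apply]; group]
      simp only [map_mul,
        cj (r := 65) (s := 37) (g := 66) (k := 1) (by omega) (by omega) (by omega) (by decide +kernel)
          (by decide +kernel) (by decide +kernel),
        cj (r := 65) (s := 42) (g := 68) (k := 1) (by omega) (by omega) (by omega) (by decide +kernel)
          (by decide +kernel) (by decide +kernel),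
        cj (r := 66) (s := 42) (g := 69) (k := 1) (by omega) (by omega) (by omega) (by decide +kernel)
          (by decide +kernel) (by decide +kernel)]
      simp [mul_assoc]
    have h1 := hex owA (by decide) w65 (Or.inl rfl) n hn w hcw (-1) (by rw [map_neg, map_one])
    have h2 := hex owA (by decide) w65 (Or.inl rfl) (n * P φ 42 37 1) (mul_mem hn he1) w hcw 1 (map_one φ)
    rw [← e, E6.ok.xG_inv, show n * (x 65 (-1) * (P φ 42 37 1 * x 65 1 * (P φ 42 37 (1 : K))⁻¹)) * n⁻¹ =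
      (n * x 65 (-1) * n⁻¹) * (n * P φ 42 37 1 * x 65 1 * (n * P φ 42 37 1)⁻¹) by group]
    exact mul_mem h1 h2
  have yP : ∀ w, Centr φ w → x 42 1 * (x 37 1 * x 44 (-1)) ∈ Subgroup.centralizer {w} := by
    intro w hcw
    have hl : WordOk E6.pk (wT ++ [0, 5]) := wok (by decide)
    have h1 := hy0 _ (nW_M φ G hO owT') w hcw
    set n := E6.ok.nW (F := K) (wT ++ [0, 5])
    rw [show n * (x 68 1 * (x 66 1 * x 69 1)) * n⁻¹ = (n * x 68 1 * n⁻¹) * ((n * x 66 1 * n⁻¹) * (n * x 69 1 * n⁻¹)) by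
      group, nW_conj hl w42 (by omega), nW_conj hl w37 (by omega), nW_conj hl w44 (by omega)] at h1
    simpa using h1
  have yQ : ∀ w, Centr φ w → x 56 1 * (x 36 1 * x 60 1) ∈ Subgroup.centralizer {w} := by
    intro w hcw
    have hl : WordOk E6.pk ([2, 4, 0, 5] ++ (wT ++ [0, 5])) := wok (by decide)
    have h1 := hy0 _ (nW_M φ G hO (ow_app owE owT')) w hcw
    set n := E6.ok.nW (F := K) ([2, 4, 0, 5] ++ (wT ++ [0, 5]))
    rw [show n * (x 68 1 * (x 66 1 * x 69 1)) * n⁻¹ = (n * x 68 1 * n⁻¹) * ((n * x 66 1 * n⁻¹) * (n * x 69 1 * n⁻¹)) by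
      group, nW_conj hl w56 (by omega), nW_conj hl w36 (by omega), nW_conj hl w60 (by omega)] at h1
    simpa using h1
  have hout : ∀ i r, i < 6 → r ≠ E6.pk.sim i → E6.pk.isPos r = true → ∀ t : K,
      x r t ∈ E6.ok.genR (F := K) (Ok.Out E6.pk (· = i)) :=
    fun i r hi hne hr t => E6.ok.xG_mem_genR ((E6.ok.out_sim (i := i) hi).2 ⟨hr, hne⟩) t
  have decs : ∀ i < 6, ∃ k : K, k ≠ 0 ∧ ∃ a ∈ E6.ok.genR (F := K) (Ok.Out E6.pk (· = i)),
      ∀ w, Centr φ w → x (E6.pk.sim i) k * a ∈ Subgroup.centralizer {w} := by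
    intro i hi
    have sims : (List.range 6).map E6.pk.sim = [56, 46, 42, 39, 37, 36] := by decide +kernel
    simp only [List.range, List.range.loop, List.map_cons, List.map_nil, List.cons.injEq, and_true] at sims
    obtain ⟨s0, s1, s2, s3, s4, s5⟩ := sims
    interval_cases i
    · refine ⟨1, one_ne_zero, x 36 1 * x 60 1, mul_mem (hout 0 36 hi (by rw [s0]; decide) (by decide +kernel) _)
        (hout 0 60 hi (by rw [s0]; decide) (by decide +kernel) _), fun w hw => ?_⟩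
      rw [s0]; exact yQ w hw
    · refine ⟨1, one_ne_zero, 1, one_mem _, fun w hw => ?_⟩
      have := hex (OWord.cons (o := [3]) (by simp) owB) (by decide) w46 (Or.inr rfl) 1 (one_mem _) w hw 1 (map_one φ)
      simpa [s1] using this
    · refine ⟨1, one_ne_zero, x 37 1 * x 44 (-1), mul_mem (hout 2 37 hi (by rw [s2]; decide) (by decide +kernel) _)
        (hout 2 44 hi (by rw [s2]; decide) (by decide +kernel) _), fun w hw => ?_⟩
      rw [s2]; exact yP w hw
    · refine ⟨1, one_ne_zero, 1, one_mem _, fun w hw => ?_⟩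
      have := hex (OWord.cons (o := [1]) (by simp) owB) (by decide) w39 (Or.inl rfl) 1 (one_mem _) w hw 1 (map_one φ)
      simpa [s3] using this
    · refine ⟨1, one_ne_zero, x 42 1 * x 44 (-1), mul_mem (hout 4 42 hi (by rw [s4]; decide) (by decide +kernel) _)
        (hout 4 44 hi (by rw [s4]; decide) (by decide +kernel) _), fun w hw => ?_⟩
      rw [s4, ← mul_assoc, com (a := 37) (b := 42) (by decide +kernel), mul_assoc]; exact yP w hw
    · refine ⟨1, one_ne_zero, x 56 1 * x 60 1, mul_mem (hout 5 56 hi (by rw [s5]; decide) (by decide +kernel) _)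
        (hout 5 60 hi (by rw [s5]; decide) (by decide +kernel) _), fun w hw => ?_⟩
      rw [s5, ← mul_assoc, com (a := 36) (b := 56) (by decide +kernel), mul_assoc]; exact yQ w hw
  have borel : ∀ w ∈ chevE6.group K, Centr φ w → w ∈ chevE6.borelSubgroup K := by
    intro w hw hcw
    refine FoldTwist.mem_borel_of_conj E6.ok ckComm_E6 hw fun i hi => ?_
    obtain ⟨k, hk, a, ha, h⟩ := decs i hi
    refine ⟨k, hk, a, ha, ?_⟩
    rw [← Subgroup.mem_centralizer_singleton_iff.1 (h w hcw), mul_inv_cancel_right]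
    exact mul_mem (E6.ok.xG_mem_pos (E6.ok.sim_pos hi) _) (E6.ok.genR_le
      (fun r hr t => E6.ok.xG_mem_pos ((E6.ok.out_sim (i := i) hi).1 hr).1 t) ha)
  set n0 : GL chevE6.Idx K := E6.ok.nW w0
  have hn0 : n0 ∈ M φ := nW_M φ G hO ow0
  have hz0 : Centr φ (n0 * z * n0⁻¹) := by
    intro m hm s hs
    have h1 := Subgroup.mem_centralizer_singleton_iff.1 (hcz (n0⁻¹ * m) (mul_mem (inv_mem hn0) hm) s hs)
    refine Subgroup.mem_centralizer_singleton_iff.2 ?_
    calc m * x 71 s * m⁻¹ * (n0 * z * n0⁻¹) = n0 * ((n0⁻¹ * m * x 71 s * (n0⁻¹ * m)⁻¹) * z) * n0⁻¹ := by group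
      _ = n0 * (z * (n0⁻¹ * m * x 71 s * (n0⁻¹ * m)⁻¹)) * n0⁻¹ := by rw [h1]
      _ = n0 * z * n0⁻¹ * (m * x 71 s * m⁻¹) := by group
  have hng : n0 ∈ chevE6.group K := ((TwE6.T φ).mem_fixed.1 hn0.1).1
  have hw0 : WordOk E6.pk w0 := wok w0_tbl.2
  obtain ⟨v, hv, d, hd, rfl⟩ := E6.ok.mem_borel (borel z hz hcz)
  have hb := borel _ (mul_mem (mul_mem hng hz) (inv_mem hng)) hz0
  have hneg : n0 * v * n0⁻¹ ∈ chevE6.negUnipotent K := by
    have hv' : v ∈ E6.ok.genR (F := K) (negS E6.pk w0) := by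
      rw [E6.ok.posUnipotent_eq] at hv
      refine E6.ok.genR_mono (fun r hr => ?_) hv
      have h4 := List.all_eq_true.1 w0_tbl.1 r (E6.pk.mem_allRoots.2 (E6.pk.isPos_iff.1 hr).2)
      rw [hr] at h4
      exact ⟨hr, by simpa using h4⟩
    have := E6.ok.uminus_conj (F := K) hw0 (one_mem _) hv'
    rwa [mul_one (E6.ok.nW w0)] at this
  have hdd : n0 * d * n0⁻¹ ∈ chevE6.borelSubgroup K :=
    Subgroup.mem_sup_right ((Subgroup.mem_normalizer_iff.1 (E6.ok.nW_normalizer (F := K) w0 hw0) _).1 hd)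
  have h1 : n0 * v * n0⁻¹ ∈ chevE6.borelSubgroup K := by
    rw [show n0 * v * n0⁻¹ = (n0 * (v * d) * n0⁻¹) * (n0 * d * n0⁻¹)⁻¹ by group]
    exact mul_mem hb (inv_mem hdd)
  have h2 := Subgroup.mem_inf.2 ⟨h1, hneg⟩
  rw [E6.ok.borel_inf_neg, Subgroup.mem_bot, conj_eq_one_iff] at h2
  subst h2
  rw [one_mul] at hcz ⊢
  obtain ⟨c, rfl⟩ := E6.ok.mem_diagonal_iff.1 hd
  refine E6.ok.hHom_eq_one_of fun j hj => ?_
  obtain ⟨k, hk, a, ha, h⟩ := decs j hj
  have h' := Subgroup.mem_centralizer_singleton_iff.1 (h _ hcz)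
  have := diag_pos (c := c) hj hk ha (by rw [← h', mul_inv_cancel_right])
  apply Units.ext
  rw [Units.coe_prod, Units.val_one]
  simpa [hchar, Units.val_zpow_eq_zpow_val] using this

include hO hp hHT hMH in
theorem rational_of_no_target (hno : ¬ Target φ H) : H ≤ Fx φ := by
  intro g hg
  have hgG := ((TwE6.T φ).mem_fixed.1 (hHT hg)).1
  have hz : g⁻¹ * gmap chevE6 φ g ∈ chevE6.group K :=
    mul_mem (inv_mem hgG) (E6.ok.map_group_le φ ⟨g, hgG, rfl⟩)
  have h1 := cent_trivial φ G hO hp hz fun m hm s hs => by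
    have hy := long_M φ (β := 71) (by decide) hs
    rcases rational_or_target φ G hO hp hHT hMH (mul_mem hg (hMH hm)) hs with h | h
    · have hy' : m * x 71 s * m⁻¹ ∈ Fx φ := mul_mem (mul_mem hm.2 hy.2) (inv_mem hm.2)
      refine Subgroup.mem_centralizer_singleton_iff.2 ?_
      rw [mem_Fx, show g * m * x 71 s * (g * m)⁻¹ = g * (m * x 71 s * m⁻¹) * g⁻¹ by group, map_mul, map_mul,
        map_inv, (mem_Fx φ).1 hy', mul_inv_eq_iff_eq_mul] at h
      rw [mul_assoc g⁻¹, h]; group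
    · exact absurd h hno
  exact (mem_Fx φ).2 (inv_mul_eq_one.1 h1).symm

include hMH in
theorem scale {l z : K} (hl : φ l = l) (hz : P φ 42 37 z ∈ H) : P φ 42 37 (l * z) ∈ H := by
  by_cases h0 : l = 0
  · rw [h0, zero_mul, P_zero]; exact one_mem _
  set u : Kˣ := (Units.mk0 l h0)⁻¹
  set c : Fin 6 → Kˣ := Pi.mulSingle 3 u
  have hu : Units.map φ.toMonoidHom u = u := Units.ext (by simp [u, hl])
  have hd : E6.ok.hHom c ∈ M φ := by
    refine ⟨(TwE6.T φ).mem_fixed.2 ⟨E6.ok.diagonal_le_group (E6.ok.mem_diagonal_iff.2 ⟨c, rfl⟩), ?_⟩, ?_⟩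
    · refine ((TwE6.T φ).σ_hHom c).trans ?_
      congr 1
      refine (TwE6.tau_apply φ c).trans ?_
      funext j; fin_cases j <;> simp [c] <;> exact hu
    · refine (mem_Fx φ).2 ((E6.ok.gmap_hHom φ c).trans ?_)
      congr 1
      funext j
      show Units.map φ.toMonoidHom (c j) = c j
      rcases eq_or_ne j (3 : Fin 6) with rfl | hj
      · simp [c]; exact hu
      · rw [show c j = 1 from Pi.mulSingle_eq_of_ne (M := fun _ : Fin 6 => Kˣ) hj u, map_one]
  have hch : ∀ r, E6.pk.A 3 r = -1 → hchar E6.pk c r = l := by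
    intro r hr
    show ∏ i : Fin 6, _ = _
    rw [Fin.prod_univ_six]
    simp [c, u, hr]
  have e : E6.ok.hHom c * P φ 42 37 z * (E6.ok.hHom c)⁻¹ = P φ 42 37 (l * z) := by
    rw [P, show ∀ a b : GL chevE6.Idx K, E6.ok.hHom c * (a * b) * (E6.ok.hHom c)⁻¹ =
      (E6.ok.hHom c * a * (E6.ok.hHom c)⁻¹) * (E6.ok.hHom c * b * (E6.ok.hHom c)⁻¹) from fun a b => by group,
      E6.ok.hHom_xG c (by decide), E6.ok.hHom_xG c (by decide), hch 42 stab.1, hch 37 stab.2, P, map_mul, hl]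
  exact e ▸ mul_mem (mul_mem (hMH hd) hz) (inv_mem (hMH hd))

include hφ hK hp hMH in
theorem all_params (hT : Target φ H) : ∀ y, P φ 42 37 y ∈ H := by
  obtain ⟨z, hz, hzH⟩ := hT
  have hrat : ∀ s : K, φ s = s → P φ 42 37 s ∈ H := fun s hs => hMH (P_M φ (by decide +kernel) hp hs)
  have hq2 : 2 ≤ q := by
    by_contra h
    have := Fintype.one_lt_card (α := K)
    interval_cases q <;> simp_all
  obtain ⟨hcard, -⟩ := Std.fixed_field_card (F := K) hq2 (by omega : 1 ≤ 2) hK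
  let f : {s : K // s ^ q = s} × {s : K // s ^ q = s} → K := fun p => p.1.1 + p.2.1 * z
  have fa : ∀ s : K, s ^ q = s → φ s = s := fun s hs => (hφ s).trans hs
  have hinj : Function.Injective f := by
    rintro ⟨⟨a, ha⟩, ⟨b, hb⟩⟩ ⟨⟨a', ha'⟩, ⟨b', hb'⟩⟩ e
    simp only [f] at e
    have e1 := congrArg φ e
    simp only [map_add, map_mul, fa _ ha, fa _ ha', fa _ hb, fa _ hb'] at e1
    have hB : b = b' := by
      have h0 : (b - b') * (z - φ z) = 0 := by linear_combination e - e1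
      rcases mul_eq_zero.1 h0 with h | h
      · exact sub_eq_zero.1 h
      · exact absurd (sub_eq_zero.1 h).symm hz
    subst hB
    simp at e
    subst e
    rfl
  have hsurj : Function.Surjective f := by
    refine (hinj.bijective_of_nat_card_le ?_).2
    rw [Nat.card_eq_fintype_card (α := K), hK, Nat.card_prod, hcard]
    ring_nf
    exact le_rfl
  intro y
  obtain ⟨⟨⟨a, ha⟩, ⟨b, hb⟩⟩, rfl⟩ := hsurj y
  show P φ 42 37 (a + b * z) ∈ H
  rw [← P_add φ (by decide +kernel)]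
  exact mul_mem (hrat a (fa a ha)) (scale φ hMH (fa b hb) hzH)

include hφ hK hO hp hMH in
theorem twisted_le_of_target (hT : Target φ H) : twistedE6 K q ≤ H := by
  have hall := all_params φ hφ hK hp hMH hT
  have w42 : nsg E6.pk [2, 4, 0, 5] 42 = (56, 1) := by decide +kernel
  have w37 : nsg E6.pk [2, 4, 0, 5] 37 = (36, 1) := by decide +kernel
  have w29 : nsg E6.pk [2, 4] 29 = (42, -1) := by decide +kernel
  have w34 : nsg E6.pk [2, 4] 34 = (37, -1) := by decide +kernel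
  have w15 : nsg E6.pk [0, 5] 15 = (56, -1) := by decide +kernel
  have w35 : nsg E6.pk [0, 5] 35 = (36, -1) := by decide +kernel
  have hall56 : ∀ y, P φ 56 36 y ∈ H := fun y => by
    have hl : WordOk E6.pk [2, 4, 0, 5] := wok (by decide)
    have hn := hMH (nW_M φ G hO owE)
    have h1 := mul_mem (mul_mem hn (hall y)) (inv_mem hn)
    rw [P, ← conj_mul, nW_conj hl w42 (by omega), nW_conj hl w37 (by omega)] at h1
    simpa [P] using h1
  refine (Subgroup.closure_le _).2 fun g hg => TwE6.gens (P' := fun g => g ∈ H) (fun r hr t ht => ?_)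
    (fun rs hrs t => ?_) hg
  · refine hMH (long_M φ ?_ ((hφ t).trans ht))
    simp only [List.mem_cons, List.not_mem_nil, or_false] at hr
    rcases hr with rfl | rfl | rfl | rfl <;> decide
  · rw [← hφ]
    simp only [List.mem_cons, List.not_mem_nil, or_false] at hrs
    rcases hrs with rfl | rfl | rfl | rfl
    · exact hall56 t
    · refine unconj (hMH (nW_M φ G hO (ow2 (o := [0, 5]) (by simp)))) ?_
      rw [← conj_mul, nW_conj (wok (by decide)) w15 (by omega), nW_conj (wok (by decide)) w35 (by omega)]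
      simpa [P] using hall56 (-t)
    · exact hall t
    · refine unconj (hMH (nW_M φ G hO (ow2 (o := [2, 4]) (by simp)))) ?_
      rw [← conj_mul, nW_conj (wok (by decide)) w29 (by omega), nW_conj (wok (by decide)) w34 (by omega)]
      simpa [P] using hall (-t)

end Cfsg.Agent.Chev.TwSubE6
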